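import Groth.Agent.SiteRlim.Tower
import Groth.Agent.SiteRlim.Sites
import Groth.Prelude.Def_CohTop
import Groth.Prelude.Def_CohCx

/-! # Derived limits of truncation towers on a space, pointwise bounds -/

set_option autoImplicit false
set_option linter.all false
set_option backward.isDefEq.respectTransparency false
set_option backward.defeqAttrib.useBackward true

universe w w' u

open CategoryTheory Limits Pretriangulated DerivedCategory CategoryTheory.Abelian TopologicalSpace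

namespace Groth.Agent.CohTopRlim

open SiteRlim

variable {X : TopCat.{u}} {A : Type (u + 1)} [Category.{u} A] [Abelian A] [HasDerivedCategory.{w} A]
  (T : TestSys (Opens.grothendieckTopology X) A)

/-- cohomology sheaves of a derived limit, pointwise -/
theorem isIso_homology_rlim (K : ℕ → DerivedCategory A) (t : ∀ n, K (n + 1) ⟶ K n) [HasProduct K]
    (L : DerivedCategory A) (a : ∀ n, L ⟶ K n) (hL : CohCx.IsRlimVia K t L a) (i : ℤ) (n₀ : ℕ)
    (hconst : ∀ n, n₀ ≤ n → IsIso ((homologyFunctor A i).map (t n)))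
    (hbij : ∀ x : X, ∃ N : ℕ, ∀ V : Opens X, x ∈ V → ∃ Y : Opens X, x ∈ Y ∧ Y ≤ V ∧ ∀ n, N ≤ n →
        Function.Bijective (fun ψ : testObj T Y i ⟶ K (n + 1) => ψ ≫ t n) ∧
        Function.Surjective (fun ψ : testObj T Y (i - 1) ⟶ K (n + 1) => ψ ≫ t n))
    (n : ℕ) (hn : n₀ ≤ n) : IsIso ((homologyFunctor A i).map (a n)) := by
  let e := (homologyFunctor A 0).shiftIso i 0 i (by simp)
  let H : DerivedCategory A ⥤ A := shiftFunctor (DerivedCategory A) i ⋙ homologyFunctor A 0
  suffices h : IsIso (H.map (a n)) from (NatIso.isIso_map_iff e (a n)).1 h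
  obtain ⟨c, hT⟩ := hL
  have hcomp : ∀ k, a (k + 1) ≫ t k = a k := fun k => by
    have h : Pi.lift a ≫ diffMap K t = 0 := comp_distTriang_mor_zero₁₂ _ hT
    have := congrArg (fun q => q ≫ Pi.π K k) h
    simp only [Category.assoc, Pi.lift_π, Preadditive.comp_sub, zero_comp] at this
    rw [← Category.assoc, Pi.lift_π, sub_eq_zero] at this
    exact this.symm
  have htr : ∀ k, n ≤ k → ∃ θ : H.obj (K k) ⟶ H.obj (K n), IsIso θ ∧ H.map (a k) ≫ θ = H.map (a n) := by
    intro k hk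
    induction k, hk using Nat.le_induction with
    | base => exact ⟨𝟙 _, inferInstance, Category.comp_id _⟩
    | succ k hk ih =>
      obtain ⟨θ, hθ, hθ'⟩ := ih
      haveI : IsIso (H.map (t k)) := (NatIso.isIso_map_iff e (t k)).2 (hconst k (le_trans hn hk))
      refine ⟨H.map (t k) ≫ θ, inferInstance, ?_⟩
      rw [← Category.assoc, ← H.map_comp, hcomp, hθ']
  have hX1 : ∀ V, testObj T V (i - 1) ≅ (testObj T V i)⟦(1 : ℤ)⟧ := fun V =>
    (shiftFunctorAdd' (DerivedCategory A) (-i) 1 (-(i - 1)) (by omega)).app _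
  have hmil : ∀ (V : Opens X) (N : ℕ), (∀ n, N ≤ n →
        Function.Bijective (fun ψ : testObj T V i ⟶ K (n + 1) => ψ ≫ t n) ∧
        Function.Surjective (fun ψ : testObj T V (i - 1) ⟶ K (n + 1) => ψ ≫ t n)) →
      ∀ m, N ≤ m → Function.Bijective (fun ψ : T.S.obj V ⟶ L⟦i⟧ => ψ ≫ (a m)⟦i⟧') := by
    intro V N h m hm
    have hb := bijective_comp_of_isRlimVia K t a ⟨c, hT⟩ (testObj T V i) N (fun k hk => (h k hk).1)
      (fun k hk y => by
        obtain ⟨x, hx⟩ := (h k hk).2 ((hX1 V).hom ≫ y)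
        refine ⟨(hX1 V).inv ≫ x, ?_⟩
        simp only [Category.assoc] at hx ⊢
        rw [hx, Iso.inv_hom_id_assoc]) m hm
    have : (fun ψ : T.S.obj V ⟶ L⟦i⟧ => ψ ≫ (a m)⟦i⟧') =
        adjShift T V i (K m) ∘ (fun φ : testObj T V i ⟶ L => φ ≫ a m) ∘ (adjShift T V i L).symm := by
      funext ψ
      rw [Function.comp_apply, Function.comp_apply, adjShift_comp, Equiv.apply_symm_apply]
    rw [this]
    exact (adjShift T V i (K m)).bijective.comp (hb.comp (adjShift T V i L).symm.bijective)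
  haveI : Mono (H.map (a n)) := T.mono_of_test _ fun U s hs => by
    let S : Sieve U :=
      { arrows := fun W g => T.P.map g ≫ s = 0
        downward_closed := fun {W W'} g hg b => by
          show T.P.map (b ≫ g) ≫ s = 0
          rw [Functor.map_comp, Category.assoc, hg, comp_zero] }
    refine T.sep s S (fun x hx => ?_) fun W g hg => hg
    obtain ⟨N, hN⟩ := hbij x
    let m := max n N
    obtain ⟨θ, hθ, hθ'⟩ := htr m (le_max_left _ _)
    have hs' : s ≫ H.map (a m) = 0 := by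
      rw [← cancel_mono θ, Category.assoc, hθ', hs, zero_comp]
    obtain ⟨S₁, hS₁, h₁⟩ := T.local_surj s
    obtain ⟨V, g, hg, hxV⟩ := hS₁ x hx
    obtain ⟨φ, hφ⟩ := h₁ g hg
    have h0 : T.cl (φ ≫ (a m)⟦i⟧') = 0 := by
      rw [T.cl_comp, hφ, Category.assoc]
      erw [hs']
      rw [comp_zero]
    obtain ⟨S₂, hS₂, h₂⟩ := T.local_zero _ h0
    obtain ⟨V₂, g₂, hg₂, hxV₂⟩ := hS₂ x hxV
    obtain ⟨Y, hxY, hYV, hY⟩ := hN V₂ hxV₂
    have hz : T.S.map (homOfLE hYV ≫ g₂) ≫ φ = 0 := by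
      apply (hmil Y N hY m (le_max_right _ _)).1
      show _ ≫ (a m)⟦i⟧' = 0 ≫ _
      rw [zero_comp, Category.assoc]
      exact h₂ _ (S₂.downward_closed hg₂ _)
    refine ⟨Y, homOfLE hYV ≫ g₂ ≫ g, ?_, hxY⟩
    show T.P.map (homOfLE hYV ≫ g₂ ≫ g) ≫ s = 0
    rw [← Category.assoc (homOfLE hYV), Functor.map_comp, Category.assoc, ← hφ, ← T.cl_map, hz, T.cl_zero]
  haveI : Epi (H.map (a n)) := T.epi_of_test _ fun U s => by
    let S : Sieve U :=
      { arrows := fun W g => ∃ ψ : T.P.obj W ⟶ H.obj L, ψ ≫ H.map (a n) = T.P.map g ≫ s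
        downward_closed := fun {W W'} g hg b => by
          obtain ⟨ψ, hψ⟩ := hg
          exact ⟨T.P.map b ≫ ψ, by rw [Category.assoc, hψ, T.P.map_comp, Category.assoc]⟩ }
    refine ⟨S, fun x hx => ?_, fun W g hg => hg⟩
    obtain ⟨N, hN⟩ := hbij x
    let m := max n N
    obtain ⟨θ, hθ, hθ'⟩ := htr m (le_max_left _ _)
    obtain ⟨S₁, hS₁, h₁⟩ := T.local_surj (s ≫ inv θ)
    obtain ⟨V, g, hg, hxV⟩ := hS₁ x hx
    obtain ⟨Y, hxY, hYV, hY⟩ := hN V hxV
    obtain ⟨φ, hφ⟩ := h₁ (homOfLE hYV ≫ g) (S₁.downward_closed hg _)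
    obtain ⟨ψ, hψ⟩ := (hmil Y N hY m (le_max_right _ _)).2 φ
    refine ⟨Y, homOfLE hYV ≫ g, ⟨T.cl ψ, ?_⟩, hxY⟩
    have h := congrArg T.cl hψ
    rw [T.cl_comp, hφ] at h
    rw [← hθ', ← Category.assoc]
    erw [h]
    simp
  exact isIso_of_mono_of_epi _

/-- the same with vanishing conditions on the cones -/
theorem isIso_homology_rlim_of_cones [HasExt.{w'} A] (K : ℕ → DerivedCategory A) (t : ∀ n, K (n + 1) ⟶ K n)
    [HasProduct K] (hK : ∀ n, ∃ a : ℤ, (K n).IsGE a)
    (L : DerivedCategory A) (a : ∀ n, L ⟶ K n) (hL : CohCx.IsRlimVia K t L a) (i : ℤ) (n₀ : ℕ)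
    (hconst : ∀ n, n₀ ≤ n → IsIso ((homologyFunctor A i).map (t n)))
    (hvan : ∀ x : X, ∃ N : ℕ, ∀ V : Opens X, x ∈ V → ∃ Y : Opens X, x ∈ Y ∧ Y ≤ V ∧ ∀ n, N ≤ n →
        ∀ (Z : DerivedCategory A) (f : K n ⟶ Z) (h : Z ⟶ (K (n + 1))⟦(1 : ℤ)⟧),
          Triangle.mk (t n) f h ∈ distTriang _ → ∀ m q : ℤ, i - 1 ≤ m → m ≤ i → q ≤ m →
            IsZero ((homologyFunctor A q).obj Z) ∨
              ∀ k : ℕ, (k : ℤ) = m - q → Subsingleton (Ext.{w'} (T.P.obj Y) ((homologyFunctor A q).obj Z) k))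
    (n : ℕ) (hn : n₀ ≤ n) : IsIso ((homologyFunctor A i).map (a n)) := by
  refine isIso_homology_rlim T K t L a hL i n₀ hconst (fun x => ?_) n hn
  obtain ⟨N, hN⟩ := hvan x
  refine ⟨N, fun V hV => ?_⟩
  obtain ⟨Y, hxY, hYV, h₃⟩ := hN V hV
  refine ⟨Y, hxY, hYV, fun l hl => ?_⟩
  obtain ⟨Z, f, h, hT⟩ := distinguished_cocone_triangle (t l)
  obtain ⟨b₁, hb₁⟩ := hK (l + 1)
  obtain ⟨b₂, hb₂⟩ := hK l
  haveI := isGE_cone (t l) f h hT b₁ b₂
  exact bij_surj_of_cone T Y i (t l) f h hT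
    (fun φ => hom_eq_zero T Y i Z (min b₂ (b₁ - 1)) (fun q _ hq => h₃ l hl Z f h hT i q (by omega) le_rfl hq) φ)
    (fun φ => hom_eq_zero T Y (i - 1) Z (min b₂ (b₁ - 1))
      (fun q _ hq => h₃ l hl Z f h hT (i - 1) q le_rfl (by omega) hq) φ)

include T in
/-- the truncation tower computes, pointwise bounds -/
theorem isRlimVia_truncTower [HasExt.{w'} A] (E : DerivedCategory A) [HasProduct (CohCx.truncTower E)]
    (hd : ∀ x : X, ∃ p : ℤ → ℤ, ∀ V : Opens X, x ∈ V → ∃ Y : Opens X, x ∈ Y ∧ Y ≤ V ∧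
      ∀ (m : ℤ) (k : ℕ), p m < k → m - k < 0 →
        Subsingleton (Ext.{w'} (T.P.obj Y) ((homologyFunctor A (m - k)).obj E) k)) :
    CohCx.IsRlimVia (CohCx.truncTower E) (CohCx.truncTowerMap E) E (CohCx.toTruncTower E) := by
  obtain ⟨L, a, hL⟩ := exists_isRlimVia (CohCx.truncTower E) (CohCx.truncTowerMap E)
  obtain ⟨e, he⟩ := exists_lift_isRlimVia _ _ a hL (CohCx.toTruncTower E) (toTruncTower_comp E)
  have : IsIso e := by
    rw [DerivedCategory.isIso_iff]
    intro i
    let n₀ := (-i).toNat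
    have := isIso_homology_rlim_of_cones T (CohCx.truncTower E) (CohCx.truncTowerMap E)
      (fun n => ⟨-(n : ℤ), inferInstance⟩) L a hL i n₀
      (fun n hn => isIso_homology_truncTowerMap E n i (by omega)) (fun x => by
        obtain ⟨p, hp⟩ := hd x
        refine ⟨(max (p i) (p (i + 1)) - i + 2).toNat + (2 - i).toNat, fun V hV => ?_⟩
        obtain ⟨Y, hxY, hYV, h₃⟩ := hp V hV
        refine ⟨Y, hxY, hYV, fun l hl X f h hT m q hm₁ hm₂ hq => ?_⟩
        by_cases hq₁ : q = -(l : ℤ) - 2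
        · refine Or.inr fun k hk => ?_
          have z : ∀ q' : ℤ, q' < -(l : ℤ) → IsZero ((homologyFunctor A q').obj (CohCx.truncTower E l)) :=
            fun q' hq' => isZero_of_isGE _ (-(l : ℤ)) q' hq'
          haveI : Mono ((homologyFunctor A q).map f ≫ 𝟙 _) := ⟨fun _ _ _ => (z q (by omega)).eq_of_tgt _ _⟩
          haveI : Mono (HomologySequence.δ (Triangle.mk (CohCx.truncTowerMap E l) f h) q (q + 1) rfl) :=
            (HomologySequence.exact₃ _ hT q (q + 1) rfl).mono_g ((z q (by omega)).eq_of_src _ _)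
          haveI : Epi (HomologySequence.δ (Triangle.mk (CohCx.truncTowerMap E l) f h) q (q + 1) rfl) :=
            (HomologySequence.exact₁ _ hT q (q + 1) rfl).epi_f ((z (q + 1) (by omega)).eq_of_tgt _ _)
          haveI := isIso_of_mono_of_epi (HomologySequence.δ (Triangle.mk (CohCx.truncTowerMap E l) f h) q (q + 1) rfl)
          haveI := isIso_homology_toTruncTower E (l + 1) (q + 1) (by omega)
          let φ : (homologyFunctor A q).obj X ≅ (homologyFunctor A (q + 1)).obj E :=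
            asIso (HomologySequence.δ (Triangle.mk (CohCx.truncTowerMap E l) f h) q (q + 1) rfl) ≪≫
              (asIso ((homologyFunctor A (q + 1)).map (CohCx.toTruncTower E (l + 1)))).symm
          have hm : p (m + 1) < (k : ℤ) := by
            obtain rfl | rfl : m = i ∨ m = i - 1 := by omega
            · omega
            · rw [show i - 1 + 1 = i by omega]; omega
          have h := h₃ (m + 1) k hm (by omega)
          rw [show m + 1 - (k : ℤ) = q + 1 by omega] at h
          refine ⟨fun x y => ?_⟩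
          have e := congrArg (fun z : Ext.{w'} (T.P.obj Y) ((homologyFunctor A (q + 1)).obj E) k =>
            z.comp (Ext.mk₀ φ.inv) (add_zero k))
            (Subsingleton.elim (h := h) (x.comp (Ext.mk₀ φ.hom) (add_zero k)) (y.comp (Ext.mk₀ φ.hom) (add_zero k)))
          simpa using e
        · refine Or.inl ?_
          by_cases hq₂ : -(l : ℤ) ≤ q
          · exact isZero_homology_cone_of_isIso _ f h hT q (isIso_homology_truncTowerMap E l q hq₂)
              (isIso_homology_truncTowerMap E l (q + 1) (by omega))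
          · refine isZero_homology_cone _ f h hT q ⟨fun _ _ _ => (isZero_of_isGE _ (-(l : ℤ)) q (by omega)).eq_of_src _ _⟩ ?_
            by_cases hq₃ : q = -(l : ℤ) - 1
            · haveI := isIso_homology_truncTowerMap E l (q + 1) (by omega)
              infer_instance
            · exact ⟨fun _ _ _ => (isZero_of_isGE _ (-((l + 1 : ℕ) : ℤ)) (q + 1) (by omega)).eq_of_tgt _ _⟩)
      n₀ le_rfl
    haveI := isIso_homology_toTruncTower E n₀ i (by omega)
    have h := congrArg (homologyFunctor A i).map (he n₀)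
    rw [Functor.map_comp] at h
    exact IsIso.of_isIso_fac_right h
  exact isRlimVia_of_isIso _ _ a hL _ e he

theorem isRlimVia_truncTower_ab [HasDerivedCategory.{u} (CohTop.Ab X)] (E : DerivedCategory (CohTop.Ab X))
    [HasProduct (CohCx.truncTower E)]
    (h : ∀ x : X, ∃ p : ℤ → ℤ, ∀ V : Opens X, x ∈ V → ∃ U : Opens X, x ∈ U ∧ U ≤ V ∧
      ∀ (m : ℤ) (k : ℕ), p m < k → m - k < 0 → Subsingleton (CohTop.HU (CohCx.HD E (m - k)) k U)) :
    CohCx.IsRlimVia (CohCx.truncTower E) (CohCx.truncTowerMap E) E (CohCx.toTruncTower E) := by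
  haveI := CategoryTheory.hasExt_of_hasDerivedCategory (C := CohTop.Ab X)
  refine isRlimVia_truncTower (SiteRlim.abTestSys (Opens.grothendieckTopology X)) E fun x => ?_
  obtain ⟨p, hp⟩ := h x
  refine ⟨p, fun V hV => ?_⟩
  obtain ⟨U, hxU, hUV, hU⟩ := hp V hV
  exact ⟨U, hxU, hUV, fun m k hk hmk => SiteRlim.subsingleton_ext_ab _ k _ (hU m k hk hmk)⟩

end Groth.Agent.CohTopRlim
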